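import Groth.Agent.KunnethHH.Main
import Groth.Agent.Nakai.AlgEquiv
import Groth.Agent.HodgeCI.Div
import Groth.Agent.HodgeCI.CIFacts
import Groth.Agent.PnHodge.Coh
import Groth.Agent.ProjMor.ProjSpaceBase
import Groth.Agent.PlaneCurve.Hyp
import Groth.Agent.S0927

/-!
# Line bundles on the product of two projective lines
-/

set_option autoImplicit false
set_option backward.isDefEq.respectTransparency false
set_option backward.isDefEq.respectTransparency.types false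
set_option linter.style.haveILetI false
set_option linter.unusedSectionVars false
set_option maxHeartbeats 1000000

universe u

open CategoryTheory CategoryTheory.Limits AlgebraicGeometry TopologicalSpace Opposite
open Groth.Agent.CohFinite (hhMap hhEquiv tmap)
open Groth.Agent.SGA6Ext
open scoped TensorProduct

noncomputable section

namespace Groth.Agent.VBP1P1

variable (k : Type u) [Field k]

/-- The product of two projective lines. -/
abbrev T : Scheme.{u} := pullback (CohB1.ProjSpace.toSpec 1 k) (CohB1.ProjSpace.toSpec 1 k)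

/-- `O(a, b)`. -/
abbrev O (a b : ℤ) : (T k).Modules :=
  CohB1.tensorMod
    ((Scheme.Modules.pullback (pullback.fst (CohB1.ProjSpace.toSpec 1 k) (CohB1.ProjSpace.toSpec 1 k))).obj
      (Twist.twistProjSpace 1 k a))
    ((Scheme.Modules.pullback (pullback.snd (CohB1.ProjSpace.toSpec 1 k) (CohB1.ProjSpace.toSpec 1 k))).obj
      (Twist.twistProjSpace 1 k b))

theorem isInvertible_O (a b : ℤ) : PicF.IsInvertible (O k a b) :=
  TMul.isInvertible_tensorMod (PicLoc.isInvertible_pullback _ (GrT.isInvertible_twist_of_gens (PlaneCurve.hasFracGens _)))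
    (PicLoc.isInvertible_pullback _ (GrT.isInvertible_twist_of_gens (PlaneCurve.hasFracGens _)))

theorem isFinLocFree_O (a b : ℤ) : FlatMod.IsFinLocFree (O k a b) :=
  SGA6Ext.finLocFree_of_rank (CurveRR.isFinLocFreeOfRank_one (isInvertible_O k a b))

/-- `H^q(O(a))` can only be non-zero for `q = 0 ≤ a` or `q = 1`, `a ≤ -2`. -/
def Supp (a : ℤ) (q : ℕ) : Prop := (q = 0 ∧ 0 ≤ a) ∨ (q = 1 ∧ a ≤ -2)

variable {k}

/-- Vanishing from the Künneth formula. -/
theorem vanish (a b : ℤ) (q : ℕ) (h : ∀ i j : ℕ, i + j = q → ¬ (Supp a i ∧ Supp b j)) :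
    Subsingleton (Coh.HH (T k) (O k a b) q) := by
  classical
  let f := CohB1.ProjSpace (1 : ℕ) k ↘ Spec (CommRingCat.of k)
  haveI : IsProper f := ProjMor.isProper_toSpec 1 k
  letI : (pullback f f).Over (Spec (CommRingCat.of k)) := ⟨pullback.fst f f ≫ f⟩
  have hq : ∀ c : ℤ, Coh.IsQCoh (Twist.twistProjSpace 1 k c) := fun c =>
    TMul.isQCoh_of_isInvertible (GrT.isInvertible_twist_of_gens (PlaneCurve.hasFracGens _))
  obtain ⟨e⟩ := KunnethHH.nonempty_kunneth (CohB1.ProjSpace 1 k) (CohB1.ProjSpace 1 k) _ (hq a) _ (hq b)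
    (Nakai.isFlatOver_field k _) (fun p => @Module.Flat.of_free k _ _ _ _ (Module.Free.of_divisionRing k _)) q
  have hv : ∀ (c : ℤ) (i : ℕ), ¬ Supp c i →
      Subsingleton (Coh.HH (CohB1.ProjSpace 1 k) (Twist.twistProjSpace 1 k c) i) := fun c i hc =>
    ProjCech.twist_vanish (R := k) 1 c i (fun h => hc (Or.inl h)) (fun h => hc (Or.inr ⟨h.1, by omega⟩))
  have hz : ∀ pq : Finset.HasAntidiagonal.antidiagonal q, Subsingleton
      (Coh.HH (CohB1.ProjSpace 1 k) (Twist.twistProjSpace 1 k a) pq.1.1 ⊗[k]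
        Coh.HH (CohB1.ProjSpace 1 k) (Twist.twistProjSpace 1 k b) pq.1.2) := by
    rintro ⟨⟨i, j⟩, hij⟩
    rcases not_and_or.1 (h i j (Finset.HasAntidiagonal.mem_antidiagonal.1 hij)) with h' | h'
    · haveI := hv a i h'; infer_instance
    · haveI := hv b j h'; infer_instance
  haveI := hz
  exact e.toEquiv.subsingleton_congr.1 ⟨fun x y => DFunLike.ext x y fun _ => Subsingleton.elim _ _⟩

theorem nonempty_O_add (a b c d : ℤ) :
    Nonempty (CohB1.tensorMod (O k a b) (O k c d) ≅ O k (a + c) (b + d)) := by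
  obtain ⟨s⟩ := TwistPairing.nonempty_twist_twist (R := k) 1 a c (a + c) rfl
  obtain ⟨t⟩ := TwistPairing.nonempty_twist_twist (R := k) 1 b d (b + d) rfl
  obtain ⟨u⟩ := TMul.nonempty_pullTensorIso (pullback.fst (CohB1.ProjSpace.toSpec 1 k) (CohB1.ProjSpace.toSpec 1 k))
    (Twist.twistProjSpace 1 k a) (Twist.twistProjSpace 1 k c)
  obtain ⟨v⟩ := TMul.nonempty_pullTensorIso (pullback.snd (CohB1.ProjSpace.toSpec 1 k) (CohB1.ProjSpace.toSpec 1 k))
    (Twist.twistProjSpace 1 k b) (Twist.twistProjSpace 1 k d)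
  exact ⟨TMul.assocIso _ _ _ ≪≫ PicGrp.tensorModIso (Iso.refl _) ((TMul.assocIso _ _ _).symm ≪≫
      PicGrp.tensorModIso (TMul.commIso _ _) (Iso.refl _) ≪≫ TMul.assocIso _ _ _) ≪≫
    (TMul.assocIso _ _ _).symm ≪≫ PicGrp.tensorModIso (u ≪≫ (Scheme.Modules.pullback _).mapIso s)
      (v ≪≫ (Scheme.Modules.pullback _).mapIso t)⟩

theorem nonempty_O_zero : Nonempty (O k 0 0 ≅ Coh.structureModule (T k)) := by
  obtain ⟨o⟩ := PnHodge.nonempty_twist_zero_iso (n := 1) (A := k)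
  exact ⟨PicGrp.tensorModIso ((Scheme.Modules.pullback _).mapIso o ≪≫ PicLoc.pullbackStructureIso _)
    ((Scheme.Modules.pullback _).mapIso o ≪≫ PicLoc.pullbackStructureIso _) ≪≫ TMul.leftUnitIso _⟩

variable (k) in
/-- `0 → O(-1) → O² → O(1) → 0` on the projective line. -/
theorem exists_line_seq :
    ∃ S : ShortComplex (CohB1.ProjSpace 1 k).Modules, S.ShortExact ∧
      Nonempty (S.X₁ ≅ Twist.twistProjSpace 1 k (-1)) ∧
      Nonempty (S.X₂ ≅ FlatMod.freeMod (CohB1.ProjSpace 1 k) 2) ∧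
      Nonempty (S.X₃ ≅ Twist.twistProjSpace 1 k 1) := by
  haveI := PnHodge.quasiSeparated_toSpec 1 k
  obtain ⟨L₀, h₀⟩ := PnHodge.exists_isOm 1 k 0
  obtain ⟨L₁, h₁⟩ := PnHodge.exists_isOm 1 k 1
  obtain ⟨L₂, h₂⟩ := PnHodge.exists_isOm 1 k 2
  obtain ⟨S, hS, ⟨a⟩, ⟨b⟩, ⟨c⟩⟩ := PnHodge.exists_seq 0 h₀ h₁ 1
  obtain ⟨S', hS', ⟨a'⟩, ⟨b'⟩, ⟨c'⟩⟩ := PnHodge.exists_seq 1 h₁ h₂ 1
  have hz : IsZero S'.X₁ := ((PnReg.isZero_tensor_right (PnHodge.isZero_extPow_omega (by omega) h₂) _).of_iso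
    (TMul.commIso _ _)).of_iso a'
  haveI := hS'.epi_g
  haveI : Mono S'.g := hS'.exact.mono_g (hz.eq_of_src _ _)
  haveI : IsIso S'.g := isIso_of_mono_of_epi _
  obtain ⟨u⟩ : Nonempty (S'.X₂ ≅ Twist.twistProjSpace 1 k (-1)) := by
    exact ⟨b' ≪≫ PicGrp.tensorModIso (eqToIso (by rfl) ≪≫ coproductUniqueIso fun _ : Fin 1 => Coh.structureModule (CohB1.ProjSpace 1 k)) (Iso.refl _) ≪≫ TMul.leftUnitIso _ ≪≫ eqToIso (by norm_num)⟩
  obtain ⟨v⟩ : Nonempty (S.X₂ ≅ FlatMod.freeMod (CohB1.ProjSpace 1 k) 2) := by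
    obtain ⟨o⟩ := PnHodge.nonempty_twist_zero_iso (n := 1) (A := k)
    exact ⟨b ≪≫ PicGrp.tensorModIso (Iso.refl _) (eqToIso (by norm_num) ≪≫ o) ≪≫ SecTwist.unitorR _⟩
  obtain ⟨w⟩ := h₀.unique (isExtPow_zero _)
  exact ⟨S, hS, ⟨a ≪≫ c'.symm ≪≫ (asIso S'.g).symm ≪≫ u⟩, ⟨v⟩,
    ⟨c ≪≫ PicGrp.tensorModIso w (Iso.refl _) ≪≫ TMul.leftUnitIso _⟩⟩

/-- A split sum of tensor products. -/
theorem subsingleton_tensor_coprod {X : Scheme.{u}} {r : ℕ} (N : Fin r → X.Modules) (G : X.Modules) (q : ℕ)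
    (h : ∀ i, Subsingleton (Coh.HH X (CohB1.tensorMod (N i) G) q)) :
    Subsingleton (Coh.HH X (CohB1.tensorMod (∐ N) G) q) := by
  refine CohQC.hh_subsingleton_of_iso (PicGrp.tensorModIso (biproduct.isoCoproduct N) (Iso.refl G)) q ?_
  refine CohFinite.subsingleton_of_split _ (fun i => CohB1.tensorMod (N i) G)
    (fun i => CohFinite.tmap (biproduct.ι N i) _) (fun i => CohFinite.tmap (biproduct.π N i) _) ?_ q h
  simp_rw [← CohFinite.tmap_comp, ← CohFinite.tmap_sum, biproduct.total, CohFinite.tmap_id]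

end Groth.Agent.VBP1P1
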