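import Groth.Agent.BlowPn.HomLift
import Groth.Agent.VBP1P1.Cohom
import Groth.Agent.PnHodge.Dim
import Groth.Agent.CohFinite.AmpleFinite

/-!
# Cokernels of matrices of linear forms on the quadric surface
-/

set_option autoImplicit false
set_option backward.isDefEq.respectTransparency false
set_option backward.isDefEq.respectTransparency.types false
set_option linter.style.haveILetI false
set_option linter.unusedSectionVars false
set_option maxHeartbeats 1000000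

universe u

open CategoryTheory CategoryTheory.Limits AlgebraicGeometry TopologicalSpace Opposite
open Groth.Agent.CohFinite (tmap hhEquiv)
open scoped TensorProduct

noncomputable section

namespace Groth.Agent.VBP1P1

variable {k : Type u} [Field k]

theorem nonempty_eta (a b : ℤ) : Nonempty (CohB1.tensorMod (O k (-a) (-b)) (O k a b) ≅ Coh.structureModule (T k)) := by
  obtain ⟨θ⟩ := nonempty_O_add (k := k) (-a) (-b) a b
  obtain ⟨z⟩ := nonempty_O_zero (k := k)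
  exact ⟨θ ≪≫ eqToIso (by rw [neg_add_cancel, neg_add_cancel]) ≪≫ z⟩

/-- global functions on the quadric are constants -/
theorem surjective_toGlobal : Function.Surjective
    (Coh.toGlobal (pullback.fst (CohB1.ProjSpace.toSpec 1 k) (CohB1.ProjSpace.toSpec 1 k) ≫
      CohB1.ProjSpace.toSpec 1 k)) := by
  let f := CohB1.ProjSpace (1 : ℕ) k ↘ Spec (CommRingCat.of k)
  haveI : IsProper f := ProjMor.isProper_toSpec 1 k
  letI : (pullback f f).Over (Spec (CommRingCat.of k)) := ⟨pullback.fst f f ≫ f⟩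
  have hq : Coh.IsQCoh (Twist.twistProjSpace 1 k 0) :=
    TMul.isQCoh_of_isInvertible (GrT.isInvertible_twist_of_gens (PlaneCurve.hasFracGens _))
  obtain ⟨e⟩ := KunnethHH.nonempty_kunneth (CohB1.ProjSpace 1 k) (CohB1.ProjSpace 1 k) _ hq _ hq
    (Nakai.isFlatOver_field k _) (fun p => @Module.Flat.of_free k _ _ _ _ (Module.Free.of_divisionRing k _)) 0
  have h1 : Module.finrank k (Coh.HH (CohB1.ProjSpace 1 k) (Twist.twistProjSpace 1 k 0) 0) = 1 := by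
    have h := (PnHodge.twist_h0 (n := 1) (k := k) 0 0 (Nat.zero_le _)).2
    rw [show ((0 : ℕ) : ℤ) - (0 : ℕ) = 0 by simp] at h
    simpa using h
  haveI : FiniteDimensional k (Coh.HH (CohB1.ProjSpace 1 k) (Twist.twistProjSpace 1 k 0) 0) :=
    Module.finite_of_finrank_eq_succ h1
  obtain ⟨z⟩ := nonempty_O_zero (k := k)
  obtain ⟨θ, hθ⟩ := CohFinite.exists_zero_equiv k (Coh.structureModule (pullback f f))
  have hdim : Module.finrank k (Coh.HH (pullback f f) (Coh.structureModule (pullback f f)) 0) = 1 := by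
    refine ((hhEquiv k z 0).finrank_eq.symm.trans e.finrank_eq.symm).trans ?_
    haveI : ∀ pq : Finset.HasAntidiagonal.antidiagonal (0 : ℕ), FiniteDimensional k
        (Coh.HH (CohB1.ProjSpace 1 k) (Twist.twistProjSpace 1 k 0) pq.1.1 ⊗[k]
          Coh.HH (CohB1.ProjSpace 1 k) (Twist.twistProjSpace 1 k 0) pq.1.2) := by
      rintro ⟨⟨i, j⟩, hij⟩
      obtain ⟨rfl, rfl⟩ : i = 0 ∧ j = 0 := by
        have := Finset.HasAntidiagonal.mem_antidiagonal.1 hij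
        simp at this
        omega
      infer_instance
    rw [Module.finrank_directSum]
    rw [Finset.sum_coe_sort (Finset.HasAntidiagonal.antidiagonal (0 : ℕ)) fun pq : ℕ × ℕ => Module.finrank k
      (Coh.HH (CohB1.ProjSpace 1 k) (Twist.twistProjSpace 1 k 0) pq.1 ⊗[k]
        Coh.HH (CohB1.ProjSpace 1 k) (Twist.twistProjSpace 1 k 0) pq.2)]
    rw [show Finset.HasAntidiagonal.antidiagonal (0 : ℕ) = {(0, 0)} from rfl, Finset.sum_singleton,
      Module.finrank_tensorProduct, h1]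
  intro a
  by_cases hsub : Subsingleton Γ(pullback f f, ⊤)
  · exact ⟨0, hsub.elim _ _⟩
  haveI : Nontrivial Γ(pullback f f, ⊤) := not_subsingleton_iff_nontrivial.1 hsub
  have hne : θ.symm (1 : Γ(pullback f f, ⊤)) ≠ 0 := fun h => one_ne_zero (α := Γ(pullback f f, ⊤))
    ((θ.apply_symm_apply _).symm.trans ((congrArg θ h).trans (map_zero θ)))
  obtain ⟨c, hc⟩ := (finrank_eq_one_iff_of_nonzero' _ hne).1 hdim (θ.symm a)
  refine ⟨c, ?_⟩
  have h := congrArg θ hc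
  rw [hθ, θ.apply_symm_apply, θ.apply_symm_apply] at h
  exact (mul_one _).symm.trans h

variable {r : ℕ} {P₁ Q₁ Q₂ : (T k).Modules} (eP : P₁ ≅ ∐ fun _ : Fin r => O k (-1) (-1))
  (eQ₁ : Q₁ ≅ ∐ fun _ : Fin r => O k (-1) 0) (eQ₂ : Q₂ ≅ ∐ fun _ : Fin r => O k 0 (-1))

include eQ₁ eQ₂ in
theorem hom_cross : (∀ φ : Q₁ ⟶ Q₂, φ = 0) ∧ ∀ φ : Q₂ ⟶ Q₁, φ = 0 := by
  constructor
  · obtain ⟨η⟩ := nonempty_eta (k := k) (-1) 0
    rw [neg_neg, neg_zero] at η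
    intro φ
    refine BlowPn.hom_coprod_eq_zero η (isInvertible_O k 1 0) eQ₁
      (CohQC.hh_subsingleton_of_iso (PicGrp.tensorModIso eQ₂ (Iso.refl _)).symm 0 (LinRes.hh_coprod _ _ 0 ?_)) φ
    obtain ⟨θ⟩ := nonempty_O_add (k := k) 0 (-1) 1 0
    exact CohQC.hh_subsingleton_of_iso θ.symm 0 (vanish _ _ 0 fun i j hij h => by
      rcases h.2 with ⟨-, h'⟩ | ⟨h', -⟩ <;> omega)
  · obtain ⟨η⟩ := nonempty_eta (k := k) 0 (-1)
    rw [neg_neg, neg_zero] at η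
    intro φ
    refine BlowPn.hom_coprod_eq_zero η (isInvertible_O k 0 1) eQ₂
      (CohQC.hh_subsingleton_of_iso (PicGrp.tensorModIso eQ₁ (Iso.refl _)).symm 0 (LinRes.hh_coprod _ _ 0 ?_)) φ
    obtain ⟨θ⟩ := nonempty_O_add (k := k) (-1) 0 0 1
    exact CohQC.hh_subsingleton_of_iso θ.symm 0 (vanish _ _ 0 fun i j hij h => by
      rcases h.1 with ⟨-, h'⟩ | ⟨h', -⟩ <;> omega)

include eP eQ₁ eQ₂ in
theorem lift_coker (f : P₁ ⟶ Q₁ ⊞ Q₂) [Mono f] (φ : Q₁ ⊞ Q₂ ⟶ cokernel f) :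
    ∃ β : Q₁ ⊞ Q₂ ⟶ Q₁ ⊞ Q₂, β ≫ cokernel.π f = φ := by
  obtain ⟨η₁⟩ := nonempty_eta (k := k) (-1) 0
  rw [neg_neg, neg_zero] at η₁
  obtain ⟨η₂⟩ := nonempty_eta (k := k) 0 (-1)
  rw [neg_neg, neg_zero] at η₂
  have h : ∀ a b : ℤ, Subsingleton (Coh.HH (T k) (O k (-1 + a) (-1 + b)) 1) →
      Subsingleton (Coh.HH (T k) (CohB1.tensorMod (ShortComplex.mk f (cokernel.π f) (cokernel.condition f)).X₁ (O k a b)) 1) :=
    fun a b h => by
      refine CohQC.hh_subsingleton_of_iso (PicGrp.tensorModIso eP (Iso.refl _)).symm 1 (LinRes.hh_coprod _ _ 1 ?_)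
      obtain ⟨θ⟩ := nonempty_O_add (k := k) (-1) (-1) a b
      exact CohQC.hh_subsingleton_of_iso θ.symm 1 h
  obtain ⟨β₁, h₁⟩ := BlowPn.exists_lift_coprod η₁ (isInvertible_O k 1 0) eQ₁ (BlowPn.coker_shortExact f)
    (h 1 0 (vanish _ _ 1 fun i j hij h => by
      rcases h.2 with ⟨hj, h'⟩ | ⟨hj, h'⟩ <;> rcases h.1 with ⟨hi, h''⟩ | ⟨hi, h''⟩ <;> omega)) (biprod.inl ≫ φ)
  obtain ⟨β₂, h₂⟩ := BlowPn.exists_lift_coprod η₂ (isInvertible_O k 0 1) eQ₂ (BlowPn.coker_shortExact f)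
    (h 0 1 (vanish _ _ 1 fun i j hij h => by
      rcases h.2 with ⟨hj, h'⟩ | ⟨hj, h'⟩ <;> rcases h.1 with ⟨hi, h''⟩ | ⟨hi, h''⟩ <;> omega)) (biprod.inr ≫ φ)
  refine ⟨biprod.desc β₁ β₂, biprod.hom_ext' _ _ ?_ ?_⟩
  · rw [← Category.assoc, biprod.inl_desc]; exact h₁
  · rw [← Category.assoc, biprod.inr_desc]; exact h₂

include eQ₁ eQ₂ in
/-- endomorphisms of the middle term are diagonal -/
theorem eq_map (β : Q₁ ⊞ Q₂ ⟶ Q₁ ⊞ Q₂) :
    β = biprod.map (biprod.inl ≫ β ≫ biprod.fst) (biprod.inr ≫ β ≫ biprod.snd) := by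
  obtain ⟨h₁, h₂⟩ := hom_cross eQ₁ eQ₂
  refine biprod.hom_ext' _ _ (biprod.hom_ext _ _ ?_ ?_) (biprod.hom_ext _ _ ?_ ?_)
  · simp
  · simp [h₁ (biprod.inl ≫ β ≫ biprod.snd)]
  · simp [h₂ (biprod.inr ≫ β ≫ biprod.fst)]
  · simp

include eQ₁ eQ₂ in
theorem exists_finite_shift_biprod (g : k →+* Γ(T k, ⊤)) (hg : Function.Surjective g) (β : Q₁ ⊞ Q₂ ⟶ Q₁ ⊞ Q₂) :
    ∃ S : Set k, S.Finite ∧ ∀ c ∉ S, IsIso (PicBdd.scal (g c) (Q₁ ⊞ Q₂) - β) := by
  obtain ⟨η₁⟩ := nonempty_eta (k := k) (-1) 0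
  rw [neg_neg, neg_zero] at η₁
  obtain ⟨η₂⟩ := nonempty_eta (k := k) 0 (-1)
  rw [neg_neg, neg_zero] at η₂
  obtain ⟨S₁, hS₁, h₁⟩ := BlowPn.exists_finite_shift g hg η₁ (isInvertible_O k 1 0) eQ₁ (biprod.inl ≫ β ≫ biprod.fst)
  obtain ⟨S₂, hS₂, h₂⟩ := BlowPn.exists_finite_shift g hg η₂ (isInvertible_O k 0 1) eQ₂ (biprod.inr ≫ β ≫ biprod.snd)
  refine ⟨S₁ ∪ S₂, hS₁.union hS₂, fun c hc => ?_⟩
  simp only [Set.mem_union, not_or] at hc
  haveI := h₁ c hc.1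
  haveI := h₂ c hc.2
  have key : PicBdd.scal (g c) (Q₁ ⊞ Q₂) - β =
      biprod.map (PicBdd.scal (g c) Q₁ - biprod.inl ≫ β ≫ biprod.fst)
        (PicBdd.scal (g c) Q₂ - biprod.inr ≫ β ≫ biprod.snd) := by
    conv_lhs => rw [eq_map eQ₁ eQ₂ β]
    refine biprod.hom_ext' _ _ ?_ ?_
    · simp [← PicBdd.scal_comp]
    · simp [← PicBdd.scal_comp]
  rw [key]
  exact (biprod.mapIso (asIso (PicBdd.scal (g c) Q₁ - biprod.inl ≫ β ≫ biprod.fst))
    (asIso (PicBdd.scal (g c) Q₂ - biprod.inr ≫ β ≫ biprod.snd))).isIso_hom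

end Groth.Agent.VBP1P1
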