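import Groth.Agent.VBP1P1.Cohom
import Groth.Agent.W7Proj.NegAffine
import Groth.Agent.DQCoh.PCCalc

/-!
# Vanishing for kernels of matrices of linear forms on the quadric surface
-/

set_option autoImplicit false
set_option backward.isDefEq.respectTransparency false
set_option backward.isDefEq.respectTransparency.types false
set_option linter.style.haveILetI false
set_option linter.unusedSectionVars false
set_option maxHeartbeats 1000000

universe u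

open CategoryTheory CategoryTheory.Limits AlgebraicGeometry TopologicalSpace Opposite
open Groth.Agent.CohFinite (hhMap hhEquiv tmap)

noncomputable section

namespace Groth.Agent.VBP1P1

variable {k : Type u} [Field k] {r : ℕ}
  [(T k).Over (Spec (CommRingCat.of k))] {Q₁ Q₂ P₂ : (T k).Modules}
  (hQ₁ : Nonempty (Q₁ ≅ ∐ fun _ : Fin r => O k 1 0)) (hQ₂ : Nonempty (Q₂ ≅ ∐ fun _ : Fin r => O k 0 1))
  (hP₂ : Nonempty (P₂ ≅ ∐ fun _ : Fin r => O k 1 1))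
  (m : Q₁ ⊞ Q₂ ⟶ P₂) [Epi m]

theorem subsingleton_mid_seq {X : Scheme.{u}} [X.Over (Spec (CommRingCat.of k))] {S : ShortComplex X.Modules}
    (hS : S.ShortExact) (q : ℕ) (h₁ : Subsingleton (Coh.HH X S.X₁ q)) (h₃ : Subsingleton (Coh.HH X S.X₃ q)) :
    Subsingleton (Coh.HH X S.X₂ q) :=
  subsingleton_of_forall_eq 0 fun x => by
    have hx : x ∈ LinearMap.ker (hhMap k S.g q) := LinearMap.mem_ker.2 (h₃.elim _ _)
    rw [← PnHodge.range_f (A := k) hS q] at hx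
    obtain ⟨y, rfl⟩ := hx
    rw [h₁.elim y 0, map_zero]

theorem subsingleton_left_of_surjective {X : Scheme.{u}} {S : ShortComplex X.Modules} (hS : S.ShortExact)
    (hs : Function.Surjective (Sheaf.H.map (S.map (CohQC.toAbF X)).g 0))
    (h₂ : Subsingleton (Coh.HH X S.X₂ 1)) : Subsingleton (Coh.HH X S.X₁ 1) := by
  haveI := h₂
  refine subsingleton_of_forall_eq 0 fun x => ?_
  obtain ⟨y, hy⟩ := (CohFinite.map_f_eq_zero_iff (CohFinite.shortExact_toAb hS) 0 x).1 (Subsingleton.elim (α := Coh.HH X S.X₂ 1) _ _)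
  obtain ⟨z, hz⟩ := hs y
  rw [← hy]
  exact (CohFinite.δH_eq_zero_iff (CohFinite.shortExact_toAb hS) 0 y).2 ⟨z, hz⟩

include hP₂ in
theorem vanish_P (a b : ℤ) (q : ℕ) (h : ∀ i j : ℕ, i + j = q → ¬ (Supp (a + 1) i ∧ Supp (b + 1) j)) :
    Subsingleton (Coh.HH (T k) (CohB1.tensorMod P₂ (O k a b)) q) := by
  obtain ⟨p⟩ := hP₂
  obtain ⟨u⟩ := nonempty_O_add (k := k) 1 1 a b
  refine CohQC.hh_subsingleton_of_iso (PicGrp.tensorModIso p (Iso.refl _)).symm q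
    (subsingleton_tensor_coprod _ _ q fun _ => CohQC.hh_subsingleton_of_iso u.symm q (vanish _ _ q ?_))
  rw [add_comm 1 a, add_comm 1 b]
  exact h

include hQ₁ hQ₂ in
theorem vanish_Q (a b : ℤ) (q : ℕ) (h : ∀ i j : ℕ, i + j = q → ¬ (Supp (a + 1) i ∧ Supp b j))
    (h' : ∀ i j : ℕ, i + j = q → ¬ (Supp a i ∧ Supp (b + 1) j)) :
    Subsingleton (Coh.HH (T k) (CohB1.tensorMod (Q₁ ⊞ Q₂) (O k a b)) q) := by
  obtain ⟨p₁⟩ := hQ₁
  obtain ⟨p₂⟩ := hQ₂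
  let S : ShortComplex (T k).Modules := ShortComplex.mk (biprod.inl : Q₁ ⟶ Q₁ ⊞ Q₂) biprod.snd biprod.inl_snd
  have hS : S.ShortExact :=
    ShortComplex.Splitting.shortExact { r := biprod.fst, s := biprod.inr }
  have hT := PnReg.shortExact_tensor (isFinLocFree_O k a b) hS
  refine subsingleton_mid_seq (k := k) hT q ?_ ?_
  · obtain ⟨u⟩ := nonempty_O_add (k := k) 1 0 a b
    refine CohQC.hh_subsingleton_of_iso (PicGrp.tensorModIso p₁ (Iso.refl _)).symm q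
      (subsingleton_tensor_coprod _ _ q fun _ => CohQC.hh_subsingleton_of_iso u.symm q (vanish _ _ q ?_))
    rw [add_comm 1 a, zero_add]
    exact h
  · obtain ⟨u⟩ := nonempty_O_add (k := k) 0 1 a b
    refine CohQC.hh_subsingleton_of_iso (PicGrp.tensorModIso p₂ (Iso.refl _)).symm q
      (subsingleton_tensor_coprod _ _ q fun _ => CohQC.hh_subsingleton_of_iso u.symm q (vanish _ _ q ?_))
    rw [add_comm 1 b, zero_add]
    exact h'

/-- The twists of the kernel. -/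
abbrev F (a b : ℤ) : (T k).Modules := CohB1.tensorMod (kernel m) (O k a b)

theorem ker_seq (a b : ℤ) :
    ∃ S : ShortComplex (T k).Modules, S.ShortExact ∧ S.X₁ = F m a b ∧
      S.X₂ = CohB1.tensorMod (Q₁ ⊞ Q₂) (O k a b) ∧ S.X₃ = CohB1.tensorMod P₂ (O k a b) :=
  ⟨_, PnReg.shortExact_tensor (isFinLocFree_O k a b) (W7Proj.shortExact_kernel m), rfl, rfl, rfl⟩

include hQ₁ hQ₂ hP₂ in
theorem vanish_F_succ (a b : ℤ) (q : ℕ) (h₁ : ∀ i j : ℕ, i + j = q + 1 → ¬ (Supp (a + 1) i ∧ Supp b j))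
    (h₂ : ∀ i j : ℕ, i + j = q + 1 → ¬ (Supp a i ∧ Supp (b + 1) j))
    (h₃ : ∀ i j : ℕ, i + j = q → ¬ (Supp (a + 1) i ∧ Supp (b + 1) j)) :
    Subsingleton (Coh.HH (T k) (F m a b) (q + 1)) := by
  obtain ⟨S, hS, e₁, e₂, e₃⟩ := ker_seq (k := k) m a b
  rw [← e₁]
  refine HodgeCI.subsingleton_left k hS (q + 1) ?_ fun j hj => ?_
  · rw [e₂]; exact vanish_Q hQ₁ hQ₂ a b (q + 1) h₁ h₂
  · obtain rfl : j = q := by omega
    rw [e₃]; exact vanish_P hP₂ a b j h₃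

theorem fst_seq (G : (T k).Modules) (hG : FlatMod.IsFinLocFree G) :
    ∃ S : ShortComplex (T k).Modules, S.ShortExact ∧
      Nonempty (S.X₁ ≅ CohB1.tensorMod (O k (-1) 0) G) ∧
      Nonempty (S.X₂ ≅ CohB1.tensorMod (FlatMod.freeMod (T k) 2) G) ∧
      Nonempty (S.X₃ ≅ CohB1.tensorMod (O k 1 0) G) := by
  obtain ⟨S₀, hS₀, ⟨a⟩, ⟨b⟩, ⟨c⟩⟩ := exists_line_seq k
  have hfl : ∀ d : ℤ, FlatMod.IsFinLocFree (Twist.twistProjSpace 1 k d) := fun d => SGA6Ext.finLocFree_of_rank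
    (CurveRR.isFinLocFreeOfRank_one (GrT.isInvertible_twist_of_gens (PlaneCurve.hasFracGens _)))
  have hfree : FlatMod.IsFinLocFree (FlatMod.freeMod (CohB1.ProjSpace 1 k) 2) :=
    ResDesc.isFinLocFree_of_frames fun x => ⟨⊤, _, _, trivial, W7Strat.isFrame_freeMod _ _⟩
  let p := pullback.fst (CohB1.ProjSpace.toSpec 1 k) (CohB1.ProjSpace.toSpec 1 k)
  have hS := SGA6Ext.shortExact_pullback p hS₀ (DQCoh.isFinLocFree_of_iso' a.symm (hfl _))
    (DQCoh.isFinLocFree_of_iso' b.symm hfree) (DQCoh.isFinLocFree_of_iso' c.symm (hfl _))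
  obtain ⟨z⟩ : Nonempty ((Scheme.Modules.pullback
      (pullback.snd (CohB1.ProjSpace.toSpec 1 k) (CohB1.ProjSpace.toSpec 1 k))).obj
        (Twist.twistProjSpace 1 k 0) ≅ Coh.structureModule (T k)) := by
    obtain ⟨o⟩ := PnHodge.nonempty_twist_zero_iso (n := 1) (A := k)
    exact ⟨(Scheme.Modules.pullback _).mapIso o ≪≫ PicLoc.pullbackStructureIso _⟩
  exact ⟨_, PnReg.shortExact_tensor hG hS,
    ⟨PicGrp.tensorModIso ((Scheme.Modules.pullback p).mapIso a ≪≫ (SecTwist.unitorR _).symm ≪≫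
      PicGrp.tensorModIso (Iso.refl _) z.symm) (Iso.refl G)⟩,
    ⟨PicGrp.tensorModIso ((Scheme.Modules.pullback p).mapIso b ≪≫ DerPerf.pullFreeIso p 2) (Iso.refl G)⟩,
    ⟨PicGrp.tensorModIso ((Scheme.Modules.pullback p).mapIso c ≪≫ (SecTwist.unitorR _).symm ≪≫
      PicGrp.tensorModIso (Iso.refl _) z.symm) (Iso.refl G)⟩⟩

theorem snd_seq (G : (T k).Modules) (hG : FlatMod.IsFinLocFree G) :
    ∃ S : ShortComplex (T k).Modules, S.ShortExact ∧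
      Nonempty (S.X₁ ≅ CohB1.tensorMod (O k 0 (-1)) G) ∧
      Nonempty (S.X₂ ≅ CohB1.tensorMod (FlatMod.freeMod (T k) 2) G) ∧
      Nonempty (S.X₃ ≅ CohB1.tensorMod (O k 0 1) G) := by
  obtain ⟨S₀, hS₀, ⟨a⟩, ⟨b⟩, ⟨c⟩⟩ := exists_line_seq k
  have hfl : ∀ d : ℤ, FlatMod.IsFinLocFree (Twist.twistProjSpace 1 k d) := fun d => SGA6Ext.finLocFree_of_rank
    (CurveRR.isFinLocFreeOfRank_one (GrT.isInvertible_twist_of_gens (PlaneCurve.hasFracGens _)))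
  have hfree : FlatMod.IsFinLocFree (FlatMod.freeMod (CohB1.ProjSpace 1 k) 2) :=
    ResDesc.isFinLocFree_of_frames fun x => ⟨⊤, _, _, trivial, W7Strat.isFrame_freeMod _ _⟩
  let p := pullback.snd (CohB1.ProjSpace.toSpec 1 k) (CohB1.ProjSpace.toSpec 1 k)
  have hS := SGA6Ext.shortExact_pullback p hS₀ (DQCoh.isFinLocFree_of_iso' a.symm (hfl _))
    (DQCoh.isFinLocFree_of_iso' b.symm hfree) (DQCoh.isFinLocFree_of_iso' c.symm (hfl _))
  obtain ⟨z⟩ : Nonempty ((Scheme.Modules.pullback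
      (pullback.fst (CohB1.ProjSpace.toSpec 1 k) (CohB1.ProjSpace.toSpec 1 k))).obj
        (Twist.twistProjSpace 1 k 0) ≅ Coh.structureModule (T k)) := by
    obtain ⟨o⟩ := PnHodge.nonempty_twist_zero_iso (n := 1) (A := k)
    exact ⟨(Scheme.Modules.pullback _).mapIso o ≪≫ PicLoc.pullbackStructureIso _⟩
  exact ⟨_, PnReg.shortExact_tensor hG hS,
    ⟨PicGrp.tensorModIso ((Scheme.Modules.pullback p).mapIso a ≪≫ (TMul.leftUnitIso _).symm ≪≫
      PicGrp.tensorModIso z.symm (Iso.refl _)) (Iso.refl G)⟩,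
    ⟨PicGrp.tensorModIso ((Scheme.Modules.pullback p).mapIso b ≪≫ DerPerf.pullFreeIso p 2) (Iso.refl G)⟩,
    ⟨PicGrp.tensorModIso ((Scheme.Modules.pullback p).mapIso c ≪≫ (TMul.leftUnitIso _).symm ≪≫
      PicGrp.tensorModIso z.symm (Iso.refl _)) (Iso.refl G)⟩⟩

theorem nonempty_F_shift (a b c d : ℤ) :
    Nonempty (CohB1.tensorMod (O k c d) (F m a b) ≅ F m (c + a) (d + b)) := by
  obtain ⟨u⟩ := nonempty_O_add (k := k) c d a b
  exact ⟨(TMul.assocIso _ _ _).symm ≪≫ PicGrp.tensorModIso (TMul.commIso _ _) (Iso.refl _) ≪≫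
    TMul.assocIso _ _ _ ≪≫ PicGrp.tensorModIso (Iso.refl (kernel m)) u⟩

variable (hm0 : Function.Surjective (Sheaf.H.map ((SheafOfModules.toSheaf _).map m) 0))

include hQ₁ hQ₂ hP₂ in
theorem vanish_h0_Q_P :
    Subsingleton (Coh.HH (T k) (CohB1.tensorMod (Q₁ ⊞ Q₂) (O k 0 0)) 1) :=
  vanish_Q hQ₁ hQ₂ 0 0 1 (fun i j h => by rintro ⟨h₁, h₂⟩; simp only [Supp] at h₁ h₂; omega)
    fun i j h => by rintro ⟨h₁, h₂⟩; simp only [Supp] at h₁ h₂; omega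

include hQ₁ hQ₂ hP₂ hm0 in
theorem vanish_h1 : Subsingleton (Coh.HH (T k) (kernel m) 1) := by
  obtain ⟨o⟩ := nonempty_O_zero (k := k)
  have h2 : Subsingleton (Coh.HH (T k) (Q₁ ⊞ Q₂) 1) := CohQC.hh_subsingleton_of_iso
    (PicGrp.tensorModIso (Iso.refl _) o ≪≫ SecTwist.unitorR _) 1 (vanish_h0_Q_P hQ₁ hQ₂ hP₂)
  exact subsingleton_left_of_surjective (W7Proj.shortExact_kernel m) hm0 h2

include hQ₁ hQ₂ hP₂ hm0 in
theorem vanish_h1_nonneg (a b : ℕ) : Subsingleton (Coh.HH (T k) (F m a b) 1) := by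
  have h2 : ∀ a b : ℤ, -1 ≤ a → -1 ≤ b → Subsingleton (Coh.HH (T k) (F m a b) 2) := fun a b ha hb =>
    vanish_F_succ hQ₁ hQ₂ hP₂ m a b 1
      (fun i j h => by rintro ⟨h₁, h₂⟩; simp only [Supp] at h₁ h₂; omega)
      (fun i j h => by rintro ⟨h₁, h₂⟩; simp only [Supp] at h₁ h₂; omega)
      (fun i j h => by rintro ⟨h₁, h₂⟩; simp only [Supp] at h₁ h₂; omega)
  have hfin : ∀ a b : ℤ, FlatMod.IsFinLocFree (F m a b) := fun a b => by
    obtain ⟨p₁⟩ := hQ₁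
    obtain ⟨p₂⟩ := hQ₂
    obtain ⟨p⟩ := hP₂
    exact ResDesc.isFinLocFree_tensorMod (DCohLocus.isFinLocFree_kernel m
      (DQCoh.isFinLocFree_biprod (DQCoh.isFinLocFree_of_iso' p₁.symm (HodgeCI.isFinLocFree_coprod _ fun _ => isFinLocFree_O k _ _))
        (DQCoh.isFinLocFree_of_iso' p₂.symm (HodgeCI.isFinLocFree_coprod _ fun _ => isFinLocFree_O k _ _)))
      (DQCoh.isFinLocFree_of_iso' p.symm (HodgeCI.isFinLocFree_coprod _ fun _ => isFinLocFree_O k _ _)))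
      (isFinLocFree_O k a b)
  have step₁ : ∀ a b : ℕ, Subsingleton (Coh.HH (T k) (F m a b) 1) →
      Subsingleton (Coh.HH (T k) (F m (a + 1 : ℕ) b) 1) := fun a b h => by
    obtain ⟨S, hS, ⟨e₁⟩, ⟨e₂⟩, ⟨e₃⟩⟩ := fst_seq (F m a b) (hfin _ _)
    obtain ⟨u⟩ := nonempty_F_shift m (a : ℤ) b 1 0
    obtain ⟨v⟩ := nonempty_F_shift m (a : ℤ) b (-1) 0
    refine CohQC.hh_subsingleton_of_iso (e₃ ≪≫ u ≪≫ eqToIso (by push_cast; rw [add_comm 1, zero_add])) 1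
      (CohFinite.subsingleton_of_shortExact hS 1 ?_ ?_)
    · exact CohQC.hh_subsingleton_of_iso e₂.symm 1 (PnHodge.subsingleton_hh_free k 2 1 h)
    · exact CohQC.hh_subsingleton_of_iso (e₁ ≪≫ v).symm 2 (h2 _ _ (by omega) (by omega))
  have step₂ : ∀ a b : ℕ, Subsingleton (Coh.HH (T k) (F m a b) 1) →
      Subsingleton (Coh.HH (T k) (F m a (b + 1 : ℕ)) 1) := fun a b h => by
    obtain ⟨S, hS, ⟨e₁⟩, ⟨e₂⟩, ⟨e₃⟩⟩ := snd_seq (F m a b) (hfin _ _)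
    obtain ⟨u⟩ := nonempty_F_shift m (a : ℤ) b 0 1
    obtain ⟨v⟩ := nonempty_F_shift m (a : ℤ) b 0 (-1)
    refine CohQC.hh_subsingleton_of_iso (e₃ ≪≫ u ≪≫ eqToIso (by push_cast; rw [add_comm 1, zero_add])) 1
      (CohFinite.subsingleton_of_shortExact hS 1 ?_ ?_)
    · exact CohQC.hh_subsingleton_of_iso e₂.symm 1 (PnHodge.subsingleton_hh_free k 2 1 h)
    · exact CohQC.hh_subsingleton_of_iso (e₁ ≪≫ v).symm 2 (h2 _ _ (by omega) (by omega))
  induction b with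
  | zero =>
    induction a with
    | zero =>
      obtain ⟨o⟩ := nonempty_O_zero (k := k)
      exact CohQC.hh_subsingleton_of_iso (SecTwist.unitorR _ ≪≫ eqToIso rfl ≪≫ Iso.refl (kernel m)).symm 1
        (vanish_h1 hQ₁ hQ₂ hP₂ m hm0) |> CohQC.hh_subsingleton_of_iso
          (PicGrp.tensorModIso (Iso.refl (kernel m)) o.symm) 1
    | succ a ih => exact step₁ a 0 ih
  | succ b ih => exact step₂ a b ih

theorem nonempty_h_free {X : Scheme.{u}} [X.Over (Spec (CommRingCat.of k))] (N : X.Modules) (r q : ℕ) :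
    Nonempty (Coh.HH X (∐ fun _ : Fin r => N) q ≃ₗ[k] (Fin r → Coh.HH X N q)) := by
  classical
  let f : Fin r → X.Modules := fun _ => N
  obtain ⟨e⟩ := PnHodge.nonempty_hh_split k (M := ⨁ f) (N := N) (fun j => biproduct.ι f j)
    (fun j => biproduct.π f j) biproduct.total (fun j => biproduct.ι_π_self f j)
    (fun j l h => biproduct.ι_π_ne f h) q
  exact ⟨hhEquiv k (biproduct.isoCoproduct f).symm q ≪≫ₗ e⟩

theorem nonempty_h_biprod {X : Scheme.{u}} [X.Over (Spec (CommRingCat.of k))] (A B : X.Modules) (q : ℕ) :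
    Nonempty (Coh.HH X (A ⊞ B) q ≃ₗ[k] Coh.HH X A q × Coh.HH X B q) := by
  refine ⟨LinearEquiv.ofBijective ((hhMap k (biprod.fst : A ⊞ B ⟶ A) q).prod (hhMap k biprod.snd q))
    ⟨fun x y h => ?_, fun v => ⟨hhMap k biprod.inl q v.1 + hhMap k biprod.inr q v.2, ?_⟩⟩⟩
  · have hr : ∀ x : Coh.HH X (A ⊞ B) q, hhMap k (biprod.inl : A ⟶ A ⊞ B) q (hhMap k biprod.fst q x) +
        hhMap k biprod.inr q (hhMap k biprod.snd q x) = x := fun x => by
      rw [← CohFinite.hhMap_comp, ← CohFinite.hhMap_comp, ← FormGr.hhMap_add', biprod.total, CohFinite.hhMap_id]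
    rw [← hr x, ← hr y, show hhMap k biprod.fst q x = hhMap k biprod.fst q y from congrArg Prod.fst h,
      show hhMap k biprod.snd q x = hhMap k biprod.snd q y from congrArg Prod.snd h]
  · refine Prod.ext ?_ ?_
    · show hhMap k biprod.fst q (_ + _) = _
      rw [map_add, ← CohFinite.hhMap_comp, ← CohFinite.hhMap_comp, biprod.inl_fst, biprod.inr_fst,
        CohFinite.hhMap_id, FormAlg.hhMap_zero, add_zero]
    · show hhMap k biprod.snd q (_ + _) = _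
      rw [map_add, ← CohFinite.hhMap_comp, ← CohFinite.hhMap_comp, biprod.inl_snd, biprod.inr_snd,
        CohFinite.hhMap_id, FormAlg.hhMap_zero, zero_add]

/-- `H⁰(O(1, b))` is twice `H⁰(O(0, b))`. -/
theorem nonempty_double_fst (b : ℤ) :
    Nonempty (Coh.HH (T k) (O k 1 b) 0 ≃ₗ[k] (Fin 2 → Coh.HH (T k) (O k 0 b) 0)) := by
  obtain ⟨S, hS, ⟨e₁⟩, ⟨e₂⟩, ⟨e₃⟩⟩ := fst_seq (O k 0 b) (isFinLocFree_O k 0 b)
  obtain ⟨u⟩ := nonempty_O_add (k := k) 1 0 0 b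
  obtain ⟨v⟩ := nonempty_O_add (k := k) (-1) 0 0 b
  have hz : ∀ q, Subsingleton (Coh.HH (T k) S.X₁ q) := fun q =>
    CohQC.hh_subsingleton_of_iso (e₁ ≪≫ v).symm q (vanish _ _ q fun i j h => by
      rintro ⟨h₁, -⟩; simp only [Supp] at h₁; omega)
  obtain ⟨f⟩ := PnHodge.nonempty_hh_free k 2 (O k 0 b) 0
  exact ⟨hhEquiv k (eqToIso (by rw [add_zero, zero_add]) ≪≫ u.symm ≪≫ e₃.symm) 0 ≪≫ₗ
    (LinearEquiv.ofBijective (hhMap k S.g 0)
      ⟨HodgeCI.injective_g k hS 0 (hz 0), PnHodge.surjective_g (A := k) hS 0 (hz 1)⟩).symm ≪≫ₗ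
    hhEquiv k e₂ 0 ≪≫ₗ f⟩

theorem nonempty_double_snd :
    Nonempty (Coh.HH (T k) (O k 0 1) 0 ≃ₗ[k] (Fin 2 → Coh.HH (T k) (O k 0 0) 0)) := by
  obtain ⟨S, hS, ⟨e₁⟩, ⟨e₂⟩, ⟨e₃⟩⟩ := snd_seq (O k 0 0) (isFinLocFree_O k 0 0)
  obtain ⟨u⟩ := nonempty_O_add (k := k) 0 1 0 0
  obtain ⟨v⟩ := nonempty_O_add (k := k) 0 (-1) 0 0
  have hz : ∀ q, Subsingleton (Coh.HH (T k) S.X₁ q) := fun q =>
    CohQC.hh_subsingleton_of_iso (e₁ ≪≫ v).symm q (vanish _ _ q fun i j h => by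
      rintro ⟨-, h₁⟩; simp only [Supp] at h₁; omega)
  obtain ⟨f⟩ := PnHodge.nonempty_hh_free k 2 (O k 0 0) 0
  exact ⟨hhEquiv k (eqToIso (by rw [add_zero, add_zero]) ≪≫ u.symm ≪≫ e₃.symm) 0 ≪≫ₗ
    (LinearEquiv.ofBijective (hhMap k S.g 0)
      ⟨HodgeCI.injective_g k hS 0 (hz 0), PnHodge.surjective_g (A := k) hS 0 (hz 1)⟩).symm ≪≫ₗ
    hhEquiv k e₂ 0 ≪≫ₗ f⟩

include hQ₁ hQ₂ hP₂ hm0 in
theorem vanish_h0 [IsProper (T k ↘ Spec (CommRingCat.of k))] : Subsingleton (Coh.HH (T k) (kernel m) 0) := by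
  haveI := CurveRR.isNoetherian_of_proper k (T k)
  haveI : Module.Finite k (Coh.HH (T k) (O k 0 0) 0) :=
    CohFinite.finite_proper k (T k) _ (CurveRR.isCoh_of_inv (isInvertible_O k 0 0)) 0
  obtain ⟨p₁⟩ := hQ₁
  obtain ⟨p₂⟩ := hQ₂
  obtain ⟨p⟩ := hP₂
  obtain ⟨a₁⟩ := nonempty_double_fst (k := k) 0
  obtain ⟨a₂⟩ := nonempty_double_snd (k := k)
  obtain ⟨a₃⟩ := nonempty_double_fst (k := k) 1
  obtain ⟨b₁⟩ := nonempty_h_free (k := k) (O k 1 0) r 0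
  obtain ⟨b₂⟩ := nonempty_h_free (k := k) (O k 0 1) r 0
  obtain ⟨b₃⟩ := nonempty_h_free (k := k) (O k 1 1) r 0
  obtain ⟨c⟩ := nonempty_h_biprod (k := k) Q₁ Q₂ 0
  let eQ := c ≪≫ₗ LinearEquiv.prodCongr (hhEquiv k p₁ 0 ≪≫ₗ b₁ ≪≫ₗ LinearEquiv.piCongrRight fun _ => a₁)
    (hhEquiv k p₂ 0 ≪≫ₗ b₂ ≪≫ₗ LinearEquiv.piCongrRight fun _ => a₂)
  let eP := hhEquiv k p 0 ≪≫ₗ b₃ ≪≫ₗ LinearEquiv.piCongrRight fun _ =>
    a₃ ≪≫ₗ LinearEquiv.piCongrRight fun _ => a₂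
  haveI := Module.Finite.equiv eQ.symm
  haveI := Module.Finite.equiv eP.symm
  have hdim : Module.finrank k (Coh.HH (T k) (Q₁ ⊞ Q₂) 0) = Module.finrank k (Coh.HH (T k) P₂ 0) := by
    rw [eQ.finrank_eq, eP.finrank_eq]
    simp only [Module.finrank_prod, Module.finrank_pi_fintype, Finset.sum_const, Finset.card_univ, Fintype.card_fin,
      smul_eq_mul]
    ring
  have hinj : Function.Injective (hhMap k m 0) :=
    (LinearMap.injective_iff_surjective_of_finrank_eq_finrank hdim).2 hm0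
  have hS := W7Proj.shortExact_kernel m
  refine subsingleton_of_forall_eq 0 fun x => PnHodge.injective_f_zero (A := k) hS ?_
  have hker : hhMap k (kernel.ι m) 0 x ∈ LinearMap.ker (hhMap k m 0) := by
    rw [← PnHodge.range_f (A := k) hS 0]; exact ⟨x, rfl⟩
  rw [LinearMap.ker_eq_bot.2 hinj, Submodule.mem_bot] at hker
  rw [map_zero]
  exact hker

end Groth.Agent.VBP1P1
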